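import Cfsg.Agent.Lib.TC.Chain
import Cfsg.Agent.Lib.Schur.Fi23c.L3.CT0
import Cfsg.Agent.Lib.Schur.Fi23c.L3.CT1
import Cfsg.Agent.Lib.Schur.Fi23c.L3.CT2
import Cfsg.Agent.Lib.Schur.Fi23c.L3.CT3

namespace Cfsg.Agent.Lib.Schur.Fi23c.L3.Tab

open Cfsg.Agent.Lib.TC.Core Cfsg.Agent.Lib.TC.Enc Cfsg.Agent.Lib.TC.Pres Cfsg.Agent.Lib.TC.Perm Cfsg.Agent.Lib.TC.Main Cfsg.Agent.Lib.TC.Chain

set_option maxRecDepth 100000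

/-- The chunks. -/
noncomputable def ctree : Tr Nat := (Tr.node (Tr.node Cfsg.Agent.Lib.Schur.Fi23c.L3.CT0.tree Cfsg.Agent.Lib.Schur.Fi23c.L3.CT2.tree) (Tr.node Cfsg.Agent.Lib.Schur.Fi23c.L3.CT1.tree Cfsg.Agent.Lib.Schur.Fi23c.L3.CT3.tree))

/-- The relator rotations. -/
noncomputable def rotT : Tr (List Nat) := (Tr.node (Tr.node (Tr.node (Tr.node (Tr.node (Tr.node (Tr.node (Tr.node (Tr.node (Tr.leaf []) (Tr.leaf [2,7,8,2,1,0,2,3,4,2,7,8,2,1,0,2,3,4,2,7,8,2,1,0,2,3,4,2,7,8,2,1,0,2,3,4,2,7,8,2,1,0,2,3,4,2,7,8,2,1,0,2,3,4,2,7,8,2,1,0,2,3,4,2,7,8,2,1,0,2,3,4,2,7,8,2,1,0,2,3,4,2,7,8,9,2,1,0,2,3,4])) (Tr.node (Tr.leaf [3,8,3,8]) (Tr.leaf []))) (Tr.node (Tr.node (Tr.leaf [8,1,8,1]) (Tr.leaf [])) (Tr.node (Tr.leaf [9,1,10,1]) (Tr.leaf [])))) (Tr.node (Tr.node (Tr.node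 (Tr.leaf [8,0,8,0]) (Tr.leaf [])) (Tr.node (Tr.leaf [5,7,5,7]) (Tr.leaf []))) (Tr.node (Tr.node (Tr.leaf [2,7,2,7,2,7]) (Tr.leaf [])) (Tr.node (Tr.leaf [8,9,8,10]) (Tr.leaf []))))) (Tr.node (Tr.node (Tr.node (Tr.node (Tr.leaf [5,0,5,0]) (Tr.leaf [1,1])) (Tr.node (Tr.leaf [4,7,4,7]) (Tr.leaf []))) (Tr.node (Tr.node (Tr.leaf [2,4,2,4]) (Tr.leaf [])) (Tr.node (Tr.leaf [4,9,4,10]) (Tr.leaf [])))) (Tr.node (Tr.node (Tr.node (Tr.leaf [1,4,1,4]) (Tr.leaf [])) (Tr.node (Tr.leaf [8,7,8,7,8,7]) (Tr.leaf []))) (Tr.node (Tr.node (Tr.leaf [5,3,5,3]) (Tr.leaf [])) (Tr.node (Tr.leaf [0,1,2,8,7,2,4,3,2,0,1,2,8,7,2,4,3,2,0,1,2,8,7,2,4,3,2,0,1,2,8,7,2,4,3,2,0,1,2,10,8,7,2,4,3,2,0,1,2,8,7,2,4,3,2,0,1,2,8,7,2,4,3,2,0,1,2,8,7,2,4,3,2,0,1,2,8,7,2,4,3,2,0,1,2,8,7,2,4,3,2]) (Tr.leaf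 [])))))) (Tr.node (Tr.node (Tr.node (Tr.node (Tr.node (Tr.leaf [3,0,3,0]) (Tr.leaf [0,2,3,4,2,7,8,2,1,0,2,3,4,2,7,8,2,1,0,2,3,4,2,7,8,2,1,0,2,3,4,2,7,8,2,1,0,2,3,4,2,7,8,9,2,1,0,2,3,4,2,7,8,2,1,0,2,3,4,2,7,8,2,1,0,2,3,4,2,7,8,2,1,0,2,3,4,2,7,8,2,1,0,2,3,4,2,7,8,2,1])) (Tr.node (Tr.leaf [6,4,6,4]) (Tr.leaf []))) (Tr.node (Tr.node (Tr.leaf [2,3,2,3,2,3]) (Tr.leaf [])) (Tr.node (Tr.leaf [2,10,2,9]) (Tr.leaf [])))) (Tr.node (Tr.node (Tr.node (Tr.leaf [3,1,3,1]) (Tr.leaf [])) (Tr.node (Tr.leaf [6,7,6,7]) (Tr.leaf []))) (Tr.node (Tr.node (Tr.leaf [3,4,3,4,3,4]) (Tr.leaf [])) (Tr.node (Tr.leaf [2,8,7,2,4,3,2,0,1,2,8,7,2,4,3,2,0,1,2,8,7,2,4,3,2,0,1,2,8,7,2,4,3,2,0,1,2,8,7,2,4,3,2,0,1,2,8,7,2,4,3,2,0,1,2,8,7,2,4,3,2,0,1,2,8,7,2,4,3,2,0,1,2,8,7,2,4,3,2,0,1,2,10,8,7,2,4,3,2,0,1])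 (Tr.leaf []))))) (Tr.node (Tr.node (Tr.node (Tr.node (Tr.leaf [7,0,7,0]) (Tr.leaf [9,10])) (Tr.node (Tr.leaf [5,6,5,6,5,6]) (Tr.leaf []))) (Tr.node (Tr.node (Tr.leaf [2,6,2,6]) (Tr.leaf [])) (Tr.node (Tr.leaf [6,9,6,10]) (Tr.leaf [])))) (Tr.node (Tr.node (Tr.node (Tr.leaf [6,1,6,1]) (Tr.leaf [])) (Tr.node (Tr.leaf [9,9,9]) (Tr.leaf []))) (Tr.node (Tr.node (Tr.leaf [3,7,3,7]) (Tr.leaf [])) (Tr.node (Tr.leaf [10,8,7,2,4,3,2,0,1,2,8,7,2,4,3,2,0,1,2,8,7,2,4,3,2,0,1,2,8,7,2,4,3,2,0,1,2,8,7,2,4,3,2,0,1,2,8,7,2,4,3,2,0,1,2,8,7,2,4,3,2,0,1,2,8,7,2,4,3,2,0,1,2,8,7,2,4,3,2,0,1,2,8,7,2,4,3,2,0,1,2]) (Tr.leaf []))))))) (Tr.node (Tr.node (Tr.node (Tr.node (Tr.node (Tr.node (Tr.leaf [2,0,2,0]) (Tr.leaf [3,4,2,7,8,2,1,0,2,3,4,2,7,8,2,1,0,2,3,4,2,7,8,2,1,0,2,3,4,2,7,8,2,1,0,2,3,4,2,7,8,2,1,0,2,3,4,2,7,8,2,1,0,2,3,4,2,7,8,2,1,0,2,3,4,2,7,8,2,1,0,2,3,4,2,7,8,9,2,1,0,2,3,4,2,7,8,2,1,0,2]))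 (Tr.node (Tr.leaf [5,4,5,4,5,4]) (Tr.leaf []))) (Tr.node (Tr.node (Tr.leaf [8,1,8,1]) (Tr.leaf [])) (Tr.node (Tr.leaf [9,2,10,2]) (Tr.leaf [])))) (Tr.node (Tr.node (Tr.node (Tr.leaf [2,1,2,1,2,1]) (Tr.leaf [])) (Tr.node (Tr.leaf [5,8,5,8]) (Tr.leaf []))) (Tr.node (Tr.node (Tr.leaf [2,8,2,8]) (Tr.leaf [])) (Tr.node (Tr.leaf [4,3,2,0,1,2,8,7,2,4,3,2,0,1,2,8,7,2,4,3,2,0,1,2,8,7,2,4,3,2,0,1,2,8,7,2,4,3,2,0,1,2,8,7,2,4,3,2,0,1,2,8,7,2,4,3,2,0,1,2,8,7,2,4,3,2,0,1,2,8,7,2,4,3,2,0,1,2,8,7,2,4,3,2,0,1,2,10,8,7,2]) (Tr.leaf []))))) (Tr.node (Tr.node (Tr.node (Tr.node (Tr.leaf [5,0,5,0]) (Tr.leaf [5,5])) (Tr.node (Tr.leaf [4,8,4,8]) (Tr.leaf []))) (Tr.node (Tr.node (Tr.leaf [2,5,2,5]) (Tr.leaf [])) (Tr.node (Tr.leaf [5,9,5,10]) (Tr.leaf [])))) (Tr.node (Tr.node (Tr.node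 (Tr.leaf [5,1,5,1]) (Tr.leaf [])) (Tr.node (Tr.leaf [8,7,8,7,8,7]) (Tr.leaf []))) (Tr.node (Tr.node (Tr.leaf [3,6,3,6]) (Tr.leaf [])) (Tr.node (Tr.leaf [3,2,0,1,2,8,7,2,4,3,2,0,1,2,8,7,2,4,3,2,0,1,2,10,8,7,2,4,3,2,0,1,2,8,7,2,4,3,2,0,1,2,8,7,2,4,3,2,0,1,2,8,7,2,4,3,2,0,1,2,8,7,2,4,3,2,0,1,2,8,7,2,4,3,2,0,1,2,8,7,2,4,3,2,0,1,2,8,7,2,4]) (Tr.leaf [])))))) (Tr.node (Tr.node (Tr.node (Tr.node (Tr.node (Tr.leaf [4,0,4,0]) (Tr.leaf [4,2,7,8,9,2,1,0,2,3,4,2,7,8,2,1,0,2,3,4,2,7,8,2,1,0,2,3,4,2,7,8,2,1,0,2,3,4,2,7,8,2,1,0,2,3,4,2,7,8,2,1,0,2,3,4,2,7,8,2,1,0,2,3,4,2,7,8,2,1,0,2,3,4,2,7,8,2,1,0,2,3,4,2,7,8,2,1,0,2,3])) (Tr.node (Tr.leaf [4,7,4,7]) (Tr.leaf []))) (Tr.node (Tr.node (Tr.leaf [2,3,2,3,2,3]) (Tr.leaf [])) (Tr.node (Tr.leaf [3,9,3,10]) (Tr.leaf [])))) (Tr.node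 (Tr.node (Tr.node (Tr.leaf [1,3,1,3]) (Tr.leaf [])) (Tr.node (Tr.leaf [8,6,8,6]) (Tr.leaf []))) (Tr.node (Tr.node (Tr.leaf [3,4,3,4,3,4]) (Tr.leaf [])) (Tr.node (Tr.leaf [7,2,4,3,2,0,1,2,8,7,2,4,3,2,0,1,2,8,7,2,4,3,2,0,1,2,8,7,2,4,3,2,0,1,2,8,7,2,4,3,2,0,1,2,8,7,2,4,3,2,0,1,2,10,8,7,2,4,3,2,0,1,2,8,7,2,4,3,2,0,1,2,8,7,2,4,3,2,0,1,2,8,7,2,4,3,2,0,1,2,8]) (Tr.leaf []))))) (Tr.node (Tr.node (Tr.node (Tr.node (Tr.leaf [0,7,0,7]) (Tr.leaf [])) (Tr.node (Tr.leaf [5,6,5,6,5,6]) (Tr.leaf []))) (Tr.node (Tr.node (Tr.leaf [7,2,7,2,7,2]) (Tr.leaf [])) (Tr.node (Tr.leaf [7,9,7,10]) (Tr.leaf [])))) (Tr.node (Tr.node (Tr.node (Tr.leaf [7,1,7,1]) (Tr.leaf [])) (Tr.node (Tr.leaf [0,10,0,9]) (Tr.leaf []))) (Tr.node (Tr.node (Tr.leaf [3,7,3,7]) (Tr.leaf [])) (Tr.node (Tr.leaf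 [0,2,3,4,2,7,8,2,1,0,2,3,4,2,7,8,2,1,0,2,3,4,2,7,8,2,1,0,2,3,4,2,7,8,2,1,0,2,3,4,2,7,8,2,1,0,2,3,4,2,7,8,2,1,0,2,3,4,2,7,8,2,1,0,2,3,4,2,7,8,2,1,0,2,3,4,2,7,8,2,1,0,2,3,4,2,7,8,9,2,1]) (Tr.leaf [])))))))) (Tr.node (Tr.node (Tr.node (Tr.node (Tr.node (Tr.node (Tr.node (Tr.leaf [1,0,1,0,1,0]) (Tr.leaf [8,2,1,0,2,3,4,2,7,8,2,1,0,2,3,4,2,7,8,2,1,0,2,3,4,2,7,8,2,1,0,2,3,4,2,7,8,2,1,0,2,3,4,2,7,8,2,1,0,2,3,4,2,7,8,2,1,0,2,3,4,2,7,8,2,1,0,2,3,4,2,7,8,2,1,0,2,3,4,2,7,8,9,2,1,0,2,3,4,2,7])) (Tr.node (Tr.leaf [5,4,5,4,5,4]) (Tr.leaf []))) (Tr.node (Tr.node (Tr.leaf [8,1,8,1]) (Tr.leaf [])) (Tr.node (Tr.leaf [10,1,9,1]) (Tr.leaf [])))) (Tr.node (Tr.node (Tr.node (Tr.leaf [2,1,2,1,2,1]) (Tr.leaf [])) (Tr.node (Tr.leaf [5,7,5,7]) (Tr.leaf []))) (Tr.node (Tr.node (Tr.leaf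 [2,8,2,8]) (Tr.leaf [])) (Tr.node (Tr.leaf [7,2,4,3,2,0,1,2,8,7,2,4,3,2,0,1,2,8,7,2,4,3,2,0,1,2,8,7,2,4,3,2,0,1,2,8,7,2,4,3,2,0,1,2,8,7,2,4,3,2,0,1,2,8,7,2,4,3,2,0,1,2,8,7,2,4,3,2,0,1,2,8,7,2,4,3,2,0,1,2,8,7,2,4,3,2,0,1,2,10,8]) (Tr.leaf []))))) (Tr.node (Tr.node (Tr.node (Tr.node (Tr.leaf [5,0,5,0]) (Tr.leaf [3,3])) (Tr.node (Tr.leaf [4,8,4,8]) (Tr.leaf []))) (Tr.node (Tr.node (Tr.leaf [2,5,2,5]) (Tr.leaf [])) (Tr.node (Tr.leaf [5,10,5,9]) (Tr.leaf [])))) (Tr.node (Tr.node (Tr.node (Tr.leaf [5,1,5,1]) (Tr.leaf [])) (Tr.node (Tr.leaf [8,7,8,7,8,7]) (Tr.leaf []))) (Tr.node (Tr.node (Tr.leaf [5,3,5,3]) (Tr.leaf [])) (Tr.node (Tr.leaf [7,2,4,3,2,0,1,2,8,7,2,4,3,2,0,1,2,8,7,2,4,3,2,0,1,2,8,7,2,4,3,2,0,1,2,10,8,7,2,4,3,2,0,1,2,8,7,2,4,3,2,0,1,2,8,7,2,4,3,2,0,1,2,8,7,2,4,3,2,0,1,2,8,7,2,4,3,2,0,1,2,8,7,2,4,3,2,0,1,2,8])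 (Tr.leaf [])))))) (Tr.node (Tr.node (Tr.node (Tr.node (Tr.node (Tr.leaf [3,0,3,0]) (Tr.leaf [3,4,2,7,8,2,1,0,2,3,4,2,7,8,2,1,0,2,3,4,2,7,8,2,1,0,2,3,4,2,7,8,9,2,1,0,2,3,4,2,7,8,2,1,0,2,3,4,2,7,8,2,1,0,2,3,4,2,7,8,2,1,0,2,3,4,2,7,8,2,1,0,2,3,4,2,7,8,2,1,0,2,3,4,2,7,8,2,1,0,2])) (Tr.node (Tr.leaf [6,4,6,4]) (Tr.leaf []))) (Tr.node (Tr.node (Tr.leaf [2,3,2,3,2,3]) (Tr.leaf [])) (Tr.node (Tr.leaf [3,10,3,9]) (Tr.leaf [])))) (Tr.node (Tr.node (Tr.node (Tr.leaf [3,1,3,1]) (Tr.leaf [])) (Tr.node (Tr.leaf [6,7,6,7]) (Tr.leaf []))) (Tr.node (Tr.node (Tr.leaf [3,4,3,4,3,4]) (Tr.leaf [])) (Tr.node (Tr.leaf [7,2,4,3,2,0,1,2,8,7,2,4,3,2,0,1,2,8,7,2,4,3,2,0,1,2,8,7,2,4,3,2,0,1,2,8,7,2,4,3,2,0,1,2,8,7,2,4,3,2,0,1,2,8,7,2,4,3,2,0,1,2,8,7,2,4,3,2,0,1,2,8,7,2,4,3,2,0,1,2,10,8,7,2,4,3,2,0,1,2,8])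 (Tr.leaf []))))) (Tr.node (Tr.node (Tr.node (Tr.node (Tr.leaf [7,0,7,0]) (Tr.leaf [])) (Tr.node (Tr.leaf [5,6,5,6,5,6]) (Tr.leaf []))) (Tr.node (Tr.node (Tr.leaf [7,2,7,2,7,2]) (Tr.leaf [])) (Tr.node (Tr.leaf [7,10,7,9]) (Tr.leaf [])))) (Tr.node (Tr.node (Tr.node (Tr.leaf [7,1,7,1]) (Tr.leaf [])) (Tr.node (Tr.leaf [10,10,10]) (Tr.leaf []))) (Tr.node (Tr.node (Tr.leaf [3,7,3,7]) (Tr.leaf [])) (Tr.node (Tr.leaf [2,1,0,2,3,4,2,7,8,2,1,0,2,3,4,2,7,8,2,1,0,2,3,4,2,7,8,2,1,0,2,3,4,2,7,8,2,1,0,2,3,4,2,7,8,2,1,0,2,3,4,2,7,8,2,1,0,2,3,4,2,7,8,2,1,0,2,3,4,2,7,8,2,1,0,2,3,4,2,7,8,2,1,0,2,3,4,2,7,8,9]) (Tr.leaf []))))))) (Tr.node (Tr.node (Tr.node (Tr.node (Tr.node (Tr.node (Tr.leaf [2,0,2,0]) (Tr.leaf [7,8,2,1,0,2,3,4,2,7,8,2,1,0,2,3,4,2,7,8,2,1,0,2,3,4,2,7,8,2,1,0,2,3,4,2,7,8,2,1,0,2,3,4,2,7,8,2,1,0,2,3,4,2,7,8,2,1,0,2,3,4,2,7,8,9,2,1,0,2,3,4,2,7,8,2,1,0,2,3,4,2,7,8,2,1,0,2,3,4,2]))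 (Tr.node (Tr.leaf [6,4,6,4]) (Tr.leaf []))) (Tr.node (Tr.node (Tr.leaf [2,3,2,3,2,3]) (Tr.leaf [])) (Tr.node (Tr.leaf [10,2,9,2]) (Tr.leaf [])))) (Tr.node (Tr.node (Tr.node (Tr.leaf [1,2,1,2,1,2]) (Tr.leaf [])) (Tr.node (Tr.leaf [5,8,5,8]) (Tr.leaf []))) (Tr.node (Tr.node (Tr.leaf [8,2,8,2]) (Tr.leaf [])) (Tr.node (Tr.leaf [2,0,1,2,8,7,2,4,3,2,0,1,2,8,7,2,4,3,2,0,1,2,8,7,2,4,3,2,0,1,2,8,7,2,4,3,2,0,1,2,8,7,2,4,3,2,0,1,2,8,7,2,4,3,2,0,1,2,8,7,2,4,3,2,0,1,2,8,7,2,4,3,2,0,1,2,8,7,2,4,3,2,0,1,2,10,8,7,2,4,3]) (Tr.leaf []))))) (Tr.node (Tr.node (Tr.node (Tr.node (Tr.leaf [6,0,6,0]) (Tr.leaf [7,7])) (Tr.node (Tr.leaf [4,8,4,8]) (Tr.leaf []))) (Tr.node (Tr.node (Tr.leaf [2,6,2,6]) (Tr.leaf [])) (Tr.node (Tr.leaf [6,10,6,9]) (Tr.leaf [])))) (Tr.node (Tr.node (Tr.node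 (Tr.leaf [6,1,6,1]) (Tr.leaf [])) (Tr.node (Tr.leaf [8,7,8,7,8,7]) (Tr.leaf []))) (Tr.node (Tr.node (Tr.leaf [3,6,3,6]) (Tr.leaf [])) (Tr.node (Tr.leaf [0,1,2,10,8,7,2,4,3,2,0,1,2,8,7,2,4,3,2,0,1,2,8,7,2,4,3,2,0,1,2,8,7,2,4,3,2,0,1,2,8,7,2,4,3,2,0,1,2,8,7,2,4,3,2,0,1,2,8,7,2,4,3,2,0,1,2,8,7,2,4,3,2,0,1,2,8,7,2,4,3,2,0,1,2,8,7,2,4,3,2]) (Tr.leaf [])))))) (Tr.node (Tr.node (Tr.node (Tr.node (Tr.node (Tr.leaf [4,0,4,0]) (Tr.leaf [7,8,9,2,1,0,2,3,4,2,7,8,2,1,0,2,3,4,2,7,8,2,1,0,2,3,4,2,7,8,2,1,0,2,3,4,2,7,8,2,1,0,2,3,4,2,7,8,2,1,0,2,3,4,2,7,8,2,1,0,2,3,4,2,7,8,2,1,0,2,3,4,2,7,8,2,1,0,2,3,4,2,7,8,2,1,0,2,3,4,2])) (Tr.node (Tr.leaf [4,7,4,7]) (Tr.leaf []))) (Tr.node (Tr.node (Tr.leaf [2,4,2,4]) (Tr.leaf [])) (Tr.node (Tr.leaf [4,10,4,9]) (Tr.leaf [])))) (Tr.node (Tr.node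 (Tr.node (Tr.leaf [1,4,1,4]) (Tr.leaf [])) (Tr.node (Tr.leaf [8,6,8,6]) (Tr.leaf []))) (Tr.node (Tr.node (Tr.leaf [5,3,5,3]) (Tr.leaf [])) (Tr.node (Tr.leaf [8,7,2,4,3,2,0,1,2,8,7,2,4,3,2,0,1,2,8,7,2,4,3,2,0,1,2,8,7,2,4,3,2,0,1,2,8,7,2,4,3,2,0,1,2,10,8,7,2,4,3,2,0,1,2,8,7,2,4,3,2,0,1,2,8,7,2,4,3,2,0,1,2,8,7,2,4,3,2,0,1,2,8,7,2,4,3,2,0,1,2]) (Tr.leaf []))))) (Tr.node (Tr.node (Tr.node (Tr.node (Tr.leaf [8,0,8,0]) (Tr.leaf [])) (Tr.node (Tr.leaf [5,7,5,7]) (Tr.leaf []))) (Tr.node (Tr.node (Tr.leaf [7,2,7,2,7,2]) (Tr.leaf [])) (Tr.node (Tr.leaf [8,10,8,9]) (Tr.leaf [])))) (Tr.node (Tr.node (Tr.node (Tr.leaf [7,1,7,1]) (Tr.leaf [])) (Tr.node (Tr.leaf [0,9,0,10]) (Tr.leaf []))) (Tr.node (Tr.node (Tr.leaf [3,8,3,8]) (Tr.leaf [])) (Tr.node (Tr.leaf [3,4,2,7,8,2,1,0,2,3,4,2,7,8,2,1,0,2,3,4,2,7,8,2,1,0,2,3,4,2,7,8,2,1,0,2,3,4,2,7,8,2,1,0,2,3,4,2,7,8,2,1,0,2,3,4,2,7,8,2,1,0,2,3,4,2,7,8,2,1,0,2,3,4,2,7,8,2,1,0,2,3,4,2,7,8,9,2,1,0,2])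 (Tr.leaf []))))))))) (Tr.node (Tr.node (Tr.node (Tr.node (Tr.node (Tr.node (Tr.node (Tr.node (Tr.leaf [0,1,0,1,0,1]) (Tr.leaf [7,8,2,1,0,2,3,4,2,7,8,2,1,0,2,3,4,2,7,8,2,1,0,2,3,4,2,7,8,2,1,0,2,3,4,2,7,8,2,1,0,2,3,4,2,7,8,2,1,0,2,3,4,2,7,8,2,1,0,2,3,4,2,7,8,2,1,0,2,3,4,2,7,8,2,1,0,2,3,4,2,7,8,9,2,1,0,2,3,4,2])) (Tr.node (Tr.leaf [8,3,8,3]) (Tr.leaf []))) (Tr.node (Tr.node (Tr.leaf [1,8,1,8]) (Tr.leaf [])) (Tr.node (Tr.leaf [1,10,1,9]) (Tr.leaf [])))) (Tr.node (Tr.node (Tr.node (Tr.leaf [0,8,0,8]) (Tr.leaf [])) (Tr.node (Tr.leaf [7,5,7,5]) (Tr.leaf []))) (Tr.node (Tr.node (Tr.leaf [8,2,8,2]) (Tr.leaf [])) (Tr.node (Tr.leaf [8,7,2,4,3,2,0,1,2,8,7,2,4,3,2,0,1,2,8,7,2,4,3,2,0,1,2,8,7,2,4,3,2,0,1,2,8,7,2,4,3,2,0,1,2,8,7,2,4,3,2,0,1,2,8,7,2,4,3,2,0,1,2,8,7,2,4,3,2,0,1,2,8,7,2,4,3,2,0,1,2,8,7,2,4,3,2,0,1,2,10])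 (Tr.leaf []))))) (Tr.node (Tr.node (Tr.node (Tr.node (Tr.leaf [0,5,0,5]) (Tr.leaf [2,2])) (Tr.node (Tr.leaf [8,4,8,4]) (Tr.leaf []))) (Tr.node (Tr.node (Tr.leaf [5,2,5,2]) (Tr.leaf [])) (Tr.node (Tr.leaf [9,5,10,5]) (Tr.leaf [])))) (Tr.node (Tr.node (Tr.node (Tr.leaf [1,4,1,4]) (Tr.leaf [])) (Tr.node (Tr.leaf [7,8,7,8,7,8]) (Tr.leaf []))) (Tr.node (Tr.node (Tr.leaf [3,5,3,5]) (Tr.leaf [])) (Tr.node (Tr.leaf [8,7,2,4,3,2,0,1,2,8,7,2,4,3,2,0,1,2,8,7,2,4,3,2,0,1,2,8,7,2,4,3,2,0,1,2,10,8,7,2,4,3,2,0,1,2,8,7,2,4,3,2,0,1,2,8,7,2,4,3,2,0,1,2,8,7,2,4,3,2,0,1,2,8,7,2,4,3,2,0,1,2,8,7,2,4,3,2,0,1,2]) (Tr.leaf [])))))) (Tr.node (Tr.node (Tr.node (Tr.node (Tr.node (Tr.leaf [0,3,0,3]) (Tr.leaf [3,4,2,7,8,2,1,0,2,3,4,2,7,8,2,1,0,2,3,4,2,7,8,2,1,0,2,3,4,2,7,8,2,1,0,2,3,4,2,7,8,9,2,1,0,2,3,4,2,7,8,2,1,0,2,3,4,2,7,8,2,1,0,2,3,4,2,7,8,2,1,0,2,3,4,2,7,8,2,1,0,2,3,4,2,7,8,2,1,0,2]))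 (Tr.node (Tr.leaf [4,6,4,6]) (Tr.leaf []))) (Tr.node (Tr.node (Tr.leaf [3,2,3,2,3,2]) (Tr.leaf [])) (Tr.node (Tr.leaf [9,3,10,3]) (Tr.leaf [])))) (Tr.node (Tr.node (Tr.node (Tr.leaf [1,3,1,3]) (Tr.leaf [])) (Tr.node (Tr.leaf [7,6,7,6]) (Tr.leaf []))) (Tr.node (Tr.node (Tr.leaf [4,3,4,3,4,3]) (Tr.leaf [])) (Tr.node (Tr.leaf [8,7,2,4,3,2,0,1,2,8,7,2,4,3,2,0,1,2,8,7,2,4,3,2,0,1,2,8,7,2,4,3,2,0,1,2,8,7,2,4,3,2,0,1,2,8,7,2,4,3,2,0,1,2,8,7,2,4,3,2,0,1,2,8,7,2,4,3,2,0,1,2,8,7,2,4,3,2,0,1,2,10,8,7,2,4,3,2,0,1,2]) (Tr.leaf []))))) (Tr.node (Tr.node (Tr.node (Tr.node (Tr.leaf [0,7,0,7]) (Tr.leaf [10,9])) (Tr.node (Tr.leaf [6,5,6,5,6,5]) (Tr.leaf []))) (Tr.node (Tr.node (Tr.leaf [2,6,2,6]) (Tr.leaf [])) (Tr.node (Tr.leaf [9,7,10,7]) (Tr.leaf [])))) (Tr.node (Tr.node (Tr.node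 (Tr.leaf [1,6,1,6]) (Tr.leaf [])) (Tr.node (Tr.leaf [10,10,10]) (Tr.leaf []))) (Tr.node (Tr.node (Tr.leaf [7,3,7,3]) (Tr.leaf [])) (Tr.node (Tr.leaf [9,2,1,0,2,3,4,2,7,8,2,1,0,2,3,4,2,7,8,2,1,0,2,3,4,2,7,8,2,1,0,2,3,4,2,7,8,2,1,0,2,3,4,2,7,8,2,1,0,2,3,4,2,7,8,2,1,0,2,3,4,2,7,8,2,1,0,2,3,4,2,7,8,2,1,0,2,3,4,2,7,8,2,1,0,2,3,4,2,7,8]) (Tr.leaf []))))))) (Tr.node (Tr.node (Tr.node (Tr.node (Tr.node (Tr.node (Tr.leaf [0,2,0,2]) (Tr.leaf [7,8,2,1,0,2,3,4,2,7,8,2,1,0,2,3,4,2,7,8,2,1,0,2,3,4,2,7,8,2,1,0,2,3,4,2,7,8,2,1,0,2,3,4,2,7,8,2,1,0,2,3,4,2,7,8,2,1,0,2,3,4,2,7,8,2,1,0,2,3,4,2,7,8,9,2,1,0,2,3,4,2,7,8,2,1,0,2,3,4,2])) (Tr.node (Tr.leaf [4,5,4,5,4,5]) (Tr.leaf []))) (Tr.node (Tr.node (Tr.leaf [3,2,3,2,3,2]) (Tr.leaf [])) (Tr.node (Tr.leaf [2,10,2,9]) (Tr.leaf []))))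 (Tr.node (Tr.node (Tr.node (Tr.leaf [2,1,2,1,2,1]) (Tr.leaf [])) (Tr.node (Tr.leaf [8,5,8,5]) (Tr.leaf []))) (Tr.node (Tr.node (Tr.leaf [2,8,2,8]) (Tr.leaf [])) (Tr.node (Tr.leaf [3,2,0,1,2,8,7,2,4,3,2,0,1,2,8,7,2,4,3,2,0,1,2,8,7,2,4,3,2,0,1,2,8,7,2,4,3,2,0,1,2,8,7,2,4,3,2,0,1,2,8,7,2,4,3,2,0,1,2,8,7,2,4,3,2,0,1,2,8,7,2,4,3,2,0,1,2,8,7,2,4,3,2,0,1,2,10,8,7,2,4]) (Tr.leaf []))))) (Tr.node (Tr.node (Tr.node (Tr.node (Tr.leaf [0,6,0,6]) (Tr.leaf [6,6])) (Tr.node (Tr.leaf [4,8,4,8]) (Tr.leaf []))) (Tr.node (Tr.node (Tr.leaf [6,2,6,2]) (Tr.leaf [])) (Tr.node (Tr.leaf [9,6,10,6]) (Tr.leaf [])))) (Tr.node (Tr.node (Tr.node (Tr.leaf [1,5,1,5]) (Tr.leaf [])) (Tr.node (Tr.leaf [7,8,7,8,7,8]) (Tr.leaf []))) (Tr.node (Tr.node (Tr.leaf [6,3,6,3]) (Tr.leaf [])) (Tr.node (Tr.leaf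 [2,4,3,2,0,1,2,8,7,2,4,3,2,0,1,2,10,8,7,2,4,3,2,0,1,2,8,7,2,4,3,2,0,1,2,8,7,2,4,3,2,0,1,2,8,7,2,4,3,2,0,1,2,8,7,2,4,3,2,0,1,2,8,7,2,4,3,2,0,1,2,8,7,2,4,3,2,0,1,2,8,7,2,4,3,2,0,1,2,8,7]) (Tr.leaf [])))))) (Tr.node (Tr.node (Tr.node (Tr.node (Tr.node (Tr.leaf [0,4,0,4]) (Tr.leaf [2,7,8,9,2,1,0,2,3,4,2,7,8,2,1,0,2,3,4,2,7,8,2,1,0,2,3,4,2,7,8,2,1,0,2,3,4,2,7,8,2,1,0,2,3,4,2,7,8,2,1,0,2,3,4,2,7,8,2,1,0,2,3,4,2,7,8,2,1,0,2,3,4,2,7,8,2,1,0,2,3,4,2,7,8,2,1,0,2,3,4])) (Tr.node (Tr.leaf [7,4,7,4]) (Tr.leaf []))) (Tr.node (Tr.node (Tr.leaf [4,2,4,2]) (Tr.leaf [])) (Tr.node (Tr.leaf [9,4,10,4]) (Tr.leaf [])))) (Tr.node (Tr.node (Tr.node (Tr.leaf [4,1,4,1]) (Tr.leaf [])) (Tr.node (Tr.leaf [6,8,6,8]) (Tr.leaf []))) (Tr.node (Tr.node (Tr.leaf [4,3,4,3,4,3]) (Tr.leaf [])) (Tr.node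 (Tr.leaf [2,8,7,2,4,3,2,0,1,2,8,7,2,4,3,2,0,1,2,8,7,2,4,3,2,0,1,2,8,7,2,4,3,2,0,1,2,8,7,2,4,3,2,0,1,2,10,8,7,2,4,3,2,0,1,2,8,7,2,4,3,2,0,1,2,8,7,2,4,3,2,0,1,2,8,7,2,4,3,2,0,1,2,8,7,2,4,3,2,0,1]) (Tr.leaf []))))) (Tr.node (Tr.node (Tr.node (Tr.node (Tr.leaf [7,0,7,0]) (Tr.leaf [])) (Tr.node (Tr.leaf [7,5,7,5]) (Tr.leaf []))) (Tr.node (Tr.node (Tr.leaf [2,7,2,7,2,7]) (Tr.leaf [])) (Tr.node (Tr.leaf [9,8,10,8]) (Tr.leaf [])))) (Tr.node (Tr.node (Tr.node (Tr.leaf [1,7,1,7]) (Tr.leaf [])) (Tr.node (Tr.leaf [10,0,9,0]) (Tr.leaf []))) (Tr.node (Tr.node (Tr.leaf [8,3,8,3]) (Tr.leaf [])) (Tr.node (Tr.leaf [2,3,4,2,7,8,2,1,0,2,3,4,2,7,8,2,1,0,2,3,4,2,7,8,2,1,0,2,3,4,2,7,8,2,1,0,2,3,4,2,7,8,2,1,0,2,3,4,2,7,8,2,1,0,2,3,4,2,7,8,2,1,0,2,3,4,2,7,8,2,1,0,2,3,4,2,7,8,2,1,0,2,3,4,2,7,8,9,2,1,0])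 (Tr.leaf [])))))))) (Tr.node (Tr.node (Tr.node (Tr.node (Tr.node (Tr.node (Tr.node (Tr.leaf [0,1,0,1,0,1]) (Tr.leaf [1,0,2,3,4,2,7,8,2,1,0,2,3,4,2,7,8,2,1,0,2,3,4,2,7,8,2,1,0,2,3,4,2,7,8,2,1,0,2,3,4,2,7,8,2,1,0,2,3,4,2,7,8,2,1,0,2,3,4,2,7,8,2,1,0,2,3,4,2,7,8,2,1,0,2,3,4,2,7,8,9,2,1,0,2,3,4,2,7,8,2])) (Tr.node (Tr.leaf [4,5,4,5,4,5]) (Tr.leaf []))) (Tr.node (Tr.node (Tr.leaf [1,8,1,8]) (Tr.leaf [])) (Tr.node (Tr.leaf [1,9,1,10]) (Tr.leaf [])))) (Tr.node (Tr.node (Tr.node (Tr.leaf [1,2,1,2,1,2]) (Tr.leaf [])) (Tr.node (Tr.leaf [8,5,8,5]) (Tr.leaf []))) (Tr.node (Tr.node (Tr.leaf [8,2,8,2]) (Tr.leaf [])) (Tr.node (Tr.leaf [2,4,3,2,0,1,2,8,7,2,4,3,2,0,1,2,8,7,2,4,3,2,0,1,2,8,7,2,4,3,2,0,1,2,8,7,2,4,3,2,0,1,2,8,7,2,4,3,2,0,1,2,8,7,2,4,3,2,0,1,2,8,7,2,4,3,2,0,1,2,8,7,2,4,3,2,0,1,2,8,7,2,4,3,2,0,1,2,10,8,7])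 (Tr.leaf []))))) (Tr.node (Tr.node (Tr.node (Tr.node (Tr.leaf [0,5,0,5]) (Tr.leaf [4,4])) (Tr.node (Tr.leaf [8,4,8,4]) (Tr.leaf []))) (Tr.node (Tr.node (Tr.leaf [5,2,5,2]) (Tr.leaf [])) (Tr.node (Tr.leaf [10,5,9,5]) (Tr.leaf [])))) (Tr.node (Tr.node (Tr.node (Tr.leaf [1,5,1,5]) (Tr.leaf [])) (Tr.node (Tr.leaf [7,8,7,8,7,8]) (Tr.leaf []))) (Tr.node (Tr.node (Tr.leaf [6,3,6,3]) (Tr.leaf [])) (Tr.node (Tr.leaf [2,4,3,2,0,1,2,8,7,2,4,3,2,0,1,2,8,7,2,4,3,2,0,1,2,8,7,2,4,3,2,0,1,2,10,8,7,2,4,3,2,0,1,2,8,7,2,4,3,2,0,1,2,8,7,2,4,3,2,0,1,2,8,7,2,4,3,2,0,1,2,8,7,2,4,3,2,0,1,2,8,7,2,4,3,2,0,1,2,8,7]) (Tr.leaf [])))))) (Tr.node (Tr.node (Tr.node (Tr.node (Tr.node (Tr.leaf [0,3,0,3]) (Tr.leaf [3,4,2,7,8,9,2,1,0,2,3,4,2,7,8,2,1,0,2,3,4,2,7,8,2,1,0,2,3,4,2,7,8,2,1,0,2,3,4,2,7,8,2,1,0,2,3,4,2,7,8,2,1,0,2,3,4,2,7,8,2,1,0,2,3,4,2,7,8,2,1,0,2,3,4,2,7,8,2,1,0,2,3,4,2,7,8,2,1,0,2]))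 (Tr.node (Tr.leaf [7,4,7,4]) (Tr.leaf []))) (Tr.node (Tr.node (Tr.leaf [3,2,3,2,3,2]) (Tr.leaf [])) (Tr.node (Tr.leaf [10,3,9,3]) (Tr.leaf [])))) (Tr.node (Tr.node (Tr.node (Tr.leaf [1,3,1,3]) (Tr.leaf [])) (Tr.node (Tr.leaf [6,7,6,7]) (Tr.leaf []))) (Tr.node (Tr.node (Tr.leaf [4,3,4,3,4,3]) (Tr.leaf [])) (Tr.node (Tr.leaf [2,4,3,2,0,1,2,8,7,2,4,3,2,0,1,2,8,7,2,4,3,2,0,1,2,8,7,2,4,3,2,0,1,2,8,7,2,4,3,2,0,1,2,8,7,2,4,3,2,0,1,2,8,7,2,4,3,2,0,1,2,8,7,2,4,3,2,0,1,2,8,7,2,4,3,2,0,1,2,10,8,7,2,4,3,2,0,1,2,8,7]) (Tr.leaf []))))) (Tr.node (Tr.node (Tr.node (Tr.node (Tr.leaf [0,7,0,7]) (Tr.leaf [])) (Tr.node (Tr.leaf [6,5,6,5,6,5]) (Tr.leaf []))) (Tr.node (Tr.node (Tr.leaf [2,7,2,7,2,7]) (Tr.leaf [])) (Tr.node (Tr.leaf [10,7,9,7]) (Tr.leaf [])))) (Tr.node (Tr.node (Tr.node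 (Tr.leaf [1,7,1,7]) (Tr.leaf [])) (Tr.node (Tr.leaf [9,0,10,0]) (Tr.leaf []))) (Tr.node (Tr.node (Tr.leaf [7,3,7,3]) (Tr.leaf [])) (Tr.node (Tr.leaf [1,0,2,3,4,2,7,8,2,1,0,2,3,4,2,7,8,2,1,0,2,3,4,2,7,8,2,1,0,2,3,4,2,7,8,2,1,0,2,3,4,2,7,8,2,1,0,2,3,4,2,7,8,2,1,0,2,3,4,2,7,8,2,1,0,2,3,4,2,7,8,2,1,0,2,3,4,2,7,8,2,1,0,2,3,4,2,7,8,9,2]) (Tr.leaf []))))))) (Tr.node (Tr.node (Tr.node (Tr.node (Tr.node (Tr.node (Tr.leaf [0,2,0,2]) (Tr.leaf [8,2,1,0,2,3,4,2,7,8,2,1,0,2,3,4,2,7,8,2,1,0,2,3,4,2,7,8,2,1,0,2,3,4,2,7,8,2,1,0,2,3,4,2,7,8,9,2,1,0,2,3,4,2,7,8,2,1,0,2,3,4,2,7,8,2,1,0,2,3,4,2,7,8,2,1,0,2,3,4,2,7,8,2,1,0,2,3,4,2,7])) (Tr.node (Tr.leaf [4,6,4,6]) (Tr.leaf []))) (Tr.node (Tr.node (Tr.leaf [3,2,3,2,3,2]) (Tr.leaf [])) (Tr.node (Tr.leaf [2,9,2,10]) (Tr.leaf []))))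 (Tr.node (Tr.node (Tr.node (Tr.leaf [1,2,1,2,1,2]) (Tr.leaf [])) (Tr.node (Tr.leaf [7,6,7,6]) (Tr.leaf []))) (Tr.node (Tr.node (Tr.leaf [4,3,4,3,4,3]) (Tr.leaf [])) (Tr.node (Tr.leaf [0,1,2,8,7,2,4,3,2,0,1,2,8,7,2,4,3,2,0,1,2,8,7,2,4,3,2,0,1,2,8,7,2,4,3,2,0,1,2,8,7,2,4,3,2,0,1,2,8,7,2,4,3,2,0,1,2,8,7,2,4,3,2,0,1,2,8,7,2,4,3,2,0,1,2,8,7,2,4,3,2,0,1,2,10,8,7,2,4,3,2]) (Tr.leaf []))))) (Tr.node (Tr.node (Tr.node (Tr.node (Tr.leaf [0,6,0,6]) (Tr.leaf [8,8])) (Tr.node (Tr.leaf [6,5,6,5,6,5]) (Tr.leaf []))) (Tr.node (Tr.node (Tr.leaf [6,2,6,2]) (Tr.leaf [])) (Tr.node (Tr.leaf [10,6,9,6]) (Tr.leaf [])))) (Tr.node (Tr.node (Tr.node (Tr.leaf [1,6,1,6]) (Tr.leaf [])) (Tr.node (Tr.leaf [9,9,9]) (Tr.leaf []))) (Tr.node (Tr.node (Tr.leaf [7,3,7,3]) (Tr.leaf [])) (Tr.node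 (Tr.leaf [2,10,8,7,2,4,3,2,0,1,2,8,7,2,4,3,2,0,1,2,8,7,2,4,3,2,0,1,2,8,7,2,4,3,2,0,1,2,8,7,2,4,3,2,0,1,2,8,7,2,4,3,2,0,1,2,8,7,2,4,3,2,0,1,2,8,7,2,4,3,2,0,1,2,8,7,2,4,3,2,0,1,2,8,7,2,4,3,2,0,1]) (Tr.leaf [])))))) (Tr.node (Tr.node (Tr.node (Tr.node (Tr.node (Tr.leaf [0,4,0,4]) (Tr.leaf [0,0])) (Tr.node (Tr.leaf [7,4,7,4]) (Tr.leaf []))) (Tr.node (Tr.node (Tr.leaf [4,2,4,2]) (Tr.leaf [])) (Tr.node (Tr.leaf [10,4,9,4]) (Tr.leaf [])))) (Tr.node (Tr.node (Tr.node (Tr.leaf [4,1,4,1]) (Tr.leaf [])) (Tr.node (Tr.leaf [6,8,6,8]) (Tr.leaf []))) (Tr.node (Tr.node (Tr.leaf [3,5,3,5]) (Tr.leaf [])) (Tr.node (Tr.leaf [4,3,2,0,1,2,8,7,2,4,3,2,0,1,2,8,7,2,4,3,2,0,1,2,8,7,2,4,3,2,0,1,2,8,7,2,4,3,2,0,1,2,10,8,7,2,4,3,2,0,1,2,8,7,2,4,3,2,0,1,2,8,7,2,4,3,2,0,1,2,8,7,2,4,3,2,0,1,2,8,7,2,4,3,2,0,1,2,8,7,2])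 (Tr.leaf []))))) (Tr.node (Tr.node (Tr.node (Tr.node (Tr.leaf [0,8,0,8]) (Tr.leaf [])) (Tr.node (Tr.leaf [7,5,7,5]) (Tr.leaf []))) (Tr.node (Tr.node (Tr.leaf [2,7,2,7,2,7]) (Tr.leaf [])) (Tr.node (Tr.leaf [10,8,9,8]) (Tr.leaf [])))) (Tr.node (Tr.node (Tr.node (Tr.leaf [1,7,1,7]) (Tr.leaf [])) (Tr.node (Tr.leaf [9,0,10,0]) (Tr.leaf []))) (Tr.node (Tr.node (Tr.leaf [8,3,8,3]) (Tr.leaf [])) (Tr.node (Tr.leaf [4,2,7,8,2,1,0,2,3,4,2,7,8,2,1,0,2,3,4,2,7,8,2,1,0,2,3,4,2,7,8,2,1,0,2,3,4,2,7,8,2,1,0,2,3,4,2,7,8,2,1,0,2,3,4,2,7,8,2,1,0,2,3,4,2,7,8,2,1,0,2,3,4,2,7,8,2,1,0,2,3,4,2,7,8,9,2,1,0,2,3]) (Tr.leaf []))))))))))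

/-- The witnesses of the rotations. -/
noncomputable def witT : Tr (Nat × Nat × Bool) := (Tr.node (Tr.node (Tr.node (Tr.node (Tr.node (Tr.node (Tr.node (Tr.node (Tr.node (Tr.leaf (0,0,false)) (Tr.leaf (46,7,true))) (Tr.node (Tr.leaf (25,3,false)) (Tr.leaf (0,0,false)))) (Tr.node (Tr.node (Tr.leaf (14,0,false)) (Tr.leaf (0,0,false))) (Tr.node (Tr.leaf (38,0,false)) (Tr.leaf (0,0,false))))) (Tr.node (Tr.node (Tr.node (Tr.leaf (7,2,false)) (Tr.leaf (0,0,false))) (Tr.node (Tr.leaf (31,3,false)) (Tr.leaf (0,0,false)))) (Tr.node (Tr.node (Tr.leaf (19,4,true)) (Tr.leaf (0,0,false))) (Tr.node (Tr.leaf (45,3,false)) (Tr.leaf (0,0,false)))))) (Tr.node (Tr.node (Tr.node (Tr.node (Tr.leaf (4,0,false)) (Tr.leaf (47,1,false))) (Tr.node (Tr.leaf (28,2,true)) (Tr.leaf (0,0,false))))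 (Tr.node (Tr.node (Tr.leaf (16,3,false)) (Tr.leaf (0,0,false))) (Tr.node (Tr.leaf (41,3,false)) (Tr.leaf (0,0,false))))) (Tr.node (Tr.node (Tr.node (Tr.leaf (10,3,false)) (Tr.leaf (0,0,false))) (Tr.node (Tr.leaf (35,0,false)) (Tr.leaf (0,0,false)))) (Tr.node (Tr.node (Tr.leaf (22,2,false)) (Tr.leaf (0,0,false))) (Tr.node (Tr.leaf (46,51,false)) (Tr.leaf (0,0,false))))))) (Tr.node (Tr.node (Tr.node (Tr.node (Tr.node (Tr.leaf (2,0,false)) (Tr.leaf (46,48,true))) (Tr.node (Tr.leaf (27,2,false)) (Tr.leaf (0,0,false)))) (Tr.node (Tr.node (Tr.leaf (15,3,false)) (Tr.leaf (0,0,false))) (Tr.node (Tr.leaf (39,2,true)) (Tr.leaf (0,0,false))))) (Tr.node (Tr.node (Tr.node (Tr.leaf (9,0,false)) (Tr.leaf (0,0,false))) (Tr.node (Tr.leaf (33,1,false)) (Tr.leaf (0,0,false))))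 (Tr.node (Tr.node (Tr.leaf (21,1,false)) (Tr.leaf (0,0,false))) (Tr.node (Tr.leaf (46,8,false)) (Tr.leaf (0,0,false)))))) (Tr.node (Tr.node (Tr.node (Tr.node (Tr.leaf (6,0,false)) (Tr.leaf (47,9,false))) (Tr.node (Tr.leaf (30,1,false)) (Tr.leaf (0,0,false)))) (Tr.node (Tr.node (Tr.leaf (18,3,false)) (Tr.leaf (0,0,false))) (Tr.node (Tr.leaf (43,3,false)) (Tr.leaf (0,0,false))))) (Tr.node (Tr.node (Tr.node (Tr.leaf (12,2,false)) (Tr.leaf (0,0,false))) (Tr.node (Tr.leaf (36,2,false)) (Tr.leaf (0,0,false)))) (Tr.node (Tr.node (Tr.leaf (24,1,false)) (Tr.leaf (0,0,false))) (Tr.node (Tr.leaf (46,90,false)) (Tr.leaf (0,0,false)))))))) (Tr.node (Tr.node (Tr.node (Tr.node (Tr.node (Tr.node (Tr.leaf (1,0,false)) (Tr.leaf (46,14,true))) (Tr.node (Tr.leaf (26,2,false)) (Tr.leaf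 (0,0,false)))) (Tr.node (Tr.node (Tr.leaf (14,3,true)) (Tr.leaf (0,0,false))) (Tr.node (Tr.leaf (39,0,false)) (Tr.leaf (0,0,false))))) (Tr.node (Tr.node (Tr.node (Tr.leaf (8,2,false)) (Tr.leaf (0,0,false))) (Tr.node (Tr.leaf (32,1,false)) (Tr.leaf (0,0,false)))) (Tr.node (Tr.node (Tr.leaf (20,3,false)) (Tr.leaf (0,0,false))) (Tr.node (Tr.leaf (46,3,false)) (Tr.leaf (0,0,false)))))) (Tr.node (Tr.node (Tr.node (Tr.node (Tr.leaf (4,1,true)) (Tr.leaf (47,5,false))) (Tr.node (Tr.leaf (29,3,false)) (Tr.leaf (0,0,false)))) (Tr.node (Tr.node (Tr.leaf (17,3,false)) (Tr.leaf (0,0,false))) (Tr.node (Tr.leaf (42,3,false)) (Tr.leaf (0,0,false))))) (Tr.node (Tr.node (Tr.node (Tr.leaf (11,2,false)) (Tr.leaf (0,0,false))) (Tr.node (Tr.leaf (35,4,false)) (Tr.leaf (0,0,false))))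 (Tr.node (Tr.node (Tr.leaf (23,1,false)) (Tr.leaf (0,0,false))) (Tr.node (Tr.leaf (46,67,false)) (Tr.leaf (0,0,false))))))) (Tr.node (Tr.node (Tr.node (Tr.node (Tr.node (Tr.leaf (3,0,false)) (Tr.leaf (46,87,true))) (Tr.node (Tr.leaf (28,1,false)) (Tr.leaf (0,0,false)))) (Tr.node (Tr.node (Tr.leaf (15,4,true)) (Tr.leaf (0,0,false))) (Tr.node (Tr.leaf (40,3,false)) (Tr.leaf (0,0,false))))) (Tr.node (Tr.node (Tr.node (Tr.leaf (9,2,true)) (Tr.leaf (0,0,false))) (Tr.node (Tr.leaf (34,0,false)) (Tr.leaf (0,0,false)))) (Tr.node (Tr.node (Tr.leaf (21,5,false)) (Tr.leaf (0,0,false))) (Tr.node (Tr.leaf (46,37,false)) (Tr.leaf (0,0,false)))))) (Tr.node (Tr.node (Tr.node (Tr.node (Tr.leaf (6,2,true)) (Tr.leaf (0,0,false))) (Tr.node (Tr.leaf (30,5,false)) (Tr.leaf (0,0,false))))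 (Tr.node (Tr.node (Tr.leaf (19,2,false)) (Tr.leaf (0,0,false))) (Tr.node (Tr.leaf (44,3,false)) (Tr.leaf (0,0,false))))) (Tr.node (Tr.node (Tr.node (Tr.leaf (13,2,false)) (Tr.leaf (0,0,false))) (Tr.node (Tr.leaf (37,1,false)) (Tr.leaf (0,0,false)))) (Tr.node (Tr.node (Tr.leaf (24,2,true)) (Tr.leaf (0,0,false))) (Tr.node (Tr.leaf (46,3,true)) (Tr.leaf (0,0,false))))))))) (Tr.node (Tr.node (Tr.node (Tr.node (Tr.node (Tr.node (Tr.node (Tr.leaf (0,2,false)) (Tr.leaf (46,9,true))) (Tr.node (Tr.leaf (26,0,false)) (Tr.leaf (0,0,false)))) (Tr.node (Tr.node (Tr.leaf (14,2,false)) (Tr.leaf (0,0,false))) (Tr.node (Tr.leaf (38,2,false)) (Tr.leaf (0,0,false))))) (Tr.node (Tr.node (Tr.node (Tr.leaf (8,0,false)) (Tr.leaf (0,0,false))) (Tr.node (Tr.leaf (31,2,true)) (Tr.leaf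 (0,0,false)))) (Tr.node (Tr.node (Tr.leaf (20,1,false)) (Tr.leaf (0,0,false))) (Tr.node (Tr.leaf (46,1,false)) (Tr.leaf (0,0,false)))))) (Tr.node (Tr.node (Tr.node (Tr.node (Tr.leaf (4,2,false)) (Tr.leaf (47,3,false))) (Tr.node (Tr.leaf (29,1,false)) (Tr.leaf (0,0,false)))) (Tr.node (Tr.node (Tr.leaf (17,1,false)) (Tr.leaf (0,0,false))) (Tr.node (Tr.leaf (42,1,false)) (Tr.leaf (0,0,false))))) (Tr.node (Tr.node (Tr.node (Tr.leaf (11,0,false)) (Tr.leaf (0,0,false))) (Tr.node (Tr.leaf (35,2,false)) (Tr.leaf (0,0,false)))) (Tr.node (Tr.node (Tr.leaf (22,1,true)) (Tr.leaf (0,0,false))) (Tr.node (Tr.leaf (46,55,false)) (Tr.leaf (0,0,false))))))) (Tr.node (Tr.node (Tr.node (Tr.node (Tr.node (Tr.leaf (2,2,false)) (Tr.leaf (46,59,true))) (Tr.node (Tr.leaf (27,1,true))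 (Tr.leaf (0,0,false)))) (Tr.node (Tr.node (Tr.leaf (15,5,false)) (Tr.leaf (0,0,false))) (Tr.node (Tr.leaf (40,1,false)) (Tr.leaf (0,0,false))))) (Tr.node (Tr.node (Tr.node (Tr.leaf (9,2,false)) (Tr.leaf (0,0,false))) (Tr.node (Tr.leaf (33,3,false)) (Tr.leaf (0,0,false)))) (Tr.node (Tr.node (Tr.leaf (21,3,false)) (Tr.leaf (0,0,false))) (Tr.node (Tr.leaf (46,10,false)) (Tr.leaf (0,0,false)))))) (Tr.node (Tr.node (Tr.node (Tr.node (Tr.leaf (6,2,false)) (Tr.leaf (0,0,false))) (Tr.node (Tr.leaf (30,3,false)) (Tr.leaf (0,0,false)))) (Tr.node (Tr.node (Tr.leaf (19,0,false)) (Tr.leaf (0,0,false))) (Tr.node (Tr.leaf (44,1,false)) (Tr.leaf (0,0,false))))) (Tr.node (Tr.node (Tr.node (Tr.leaf (13,0,false)) (Tr.leaf (0,0,false))) (Tr.node (Tr.leaf (36,2,true)) (Tr.leaf (0,0,false))))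 (Tr.node (Tr.node (Tr.leaf (24,3,false)) (Tr.leaf (0,0,false))) (Tr.node (Tr.leaf (46,1,true)) (Tr.leaf (0,0,false)))))))) (Tr.node (Tr.node (Tr.node (Tr.node (Tr.node (Tr.node (Tr.leaf (1,2,false)) (Tr.leaf (46,26,true))) (Tr.node (Tr.leaf (27,0,false)) (Tr.leaf (0,0,false)))) (Tr.node (Tr.node (Tr.leaf (15,1,false)) (Tr.leaf (0,0,false))) (Tr.node (Tr.leaf (39,2,false)) (Tr.leaf (0,0,false))))) (Tr.node (Tr.node (Tr.node (Tr.leaf (8,5,false)) (Tr.leaf (0,0,false))) (Tr.node (Tr.leaf (32,3,false)) (Tr.leaf (0,0,false)))) (Tr.node (Tr.node (Tr.leaf (20,3,true)) (Tr.leaf (0,0,false))) (Tr.node (Tr.leaf (46,5,false)) (Tr.leaf (0,0,false)))))) (Tr.node (Tr.node (Tr.node (Tr.node (Tr.leaf (5,2,false)) (Tr.leaf (47,7,false))) (Tr.node (Tr.leaf (29,2,true)) (Tr.leaf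 (0,0,false)))) (Tr.node (Tr.node (Tr.leaf (18,1,false)) (Tr.leaf (0,0,false))) (Tr.node (Tr.leaf (43,1,false)) (Tr.leaf (0,0,false))))) (Tr.node (Tr.node (Tr.node (Tr.leaf (12,0,false)) (Tr.leaf (0,0,false))) (Tr.node (Tr.leaf (35,5,true)) (Tr.leaf (0,0,false)))) (Tr.node (Tr.node (Tr.leaf (23,3,false)) (Tr.leaf (0,0,false))) (Tr.node (Tr.leaf (46,87,false)) (Tr.leaf (0,0,false))))))) (Tr.node (Tr.node (Tr.node (Tr.node (Tr.node (Tr.leaf (3,2,false)) (Tr.leaf (46,89,true))) (Tr.node (Tr.leaf (28,3,false)) (Tr.leaf (0,0,false)))) (Tr.node (Tr.node (Tr.leaf (16,1,false)) (Tr.leaf (0,0,false))) (Tr.node (Tr.leaf (41,1,false)) (Tr.leaf (0,0,false))))) (Tr.node (Tr.node (Tr.node (Tr.leaf (10,1,false)) (Tr.leaf (0,0,false))) (Tr.node (Tr.leaf (34,2,false)) (Tr.leaf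 (0,0,false)))) (Tr.node (Tr.node (Tr.leaf (22,0,false)) (Tr.leaf (0,0,false))) (Tr.node (Tr.leaf (46,45,false)) (Tr.leaf (0,0,false)))))) (Tr.node (Tr.node (Tr.node (Tr.node (Tr.leaf (7,0,false)) (Tr.leaf (0,0,false))) (Tr.node (Tr.leaf (31,1,false)) (Tr.leaf (0,0,false)))) (Tr.node (Tr.node (Tr.leaf (19,4,false)) (Tr.leaf (0,0,false))) (Tr.node (Tr.leaf (45,1,false)) (Tr.leaf (0,0,false))))) (Tr.node (Tr.node (Tr.node (Tr.leaf (13,1,true)) (Tr.leaf (0,0,false))) (Tr.node (Tr.leaf (37,3,false)) (Tr.leaf (0,0,false)))) (Tr.node (Tr.node (Tr.leaf (25,1,false)) (Tr.leaf (0,0,false))) (Tr.node (Tr.leaf (46,5,true)) (Tr.leaf (0,0,false)))))))))) (Tr.node (Tr.node (Tr.node (Tr.node (Tr.node (Tr.node (Tr.node (Tr.node (Tr.leaf (0,1,false)) (Tr.leaf (46,8,true))) (Tr.node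 (Tr.leaf (25,3,true)) (Tr.leaf (0,0,false)))) (Tr.node (Tr.node (Tr.leaf (14,1,false)) (Tr.leaf (0,0,false))) (Tr.node (Tr.leaf (38,1,false)) (Tr.leaf (0,0,false))))) (Tr.node (Tr.node (Tr.node (Tr.leaf (7,3,false)) (Tr.leaf (0,0,false))) (Tr.node (Tr.leaf (31,1,true)) (Tr.leaf (0,0,false)))) (Tr.node (Tr.node (Tr.leaf (20,0,false)) (Tr.leaf (0,0,false))) (Tr.node (Tr.leaf (46,0,false)) (Tr.leaf (0,0,false)))))) (Tr.node (Tr.node (Tr.node (Tr.node (Tr.leaf (4,1,false)) (Tr.leaf (47,2,false))) (Tr.node (Tr.leaf (29,0,false)) (Tr.leaf (0,0,false)))) (Tr.node (Tr.node (Tr.leaf (17,0,false)) (Tr.leaf (0,0,false))) (Tr.node (Tr.leaf (42,0,false)) (Tr.leaf (0,0,false))))) (Tr.node (Tr.node (Tr.node (Tr.leaf (10,2,true)) (Tr.leaf (0,0,false))) (Tr.node (Tr.leaf (35,1,false))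 (Tr.leaf (0,0,false)))) (Tr.node (Tr.node (Tr.leaf (22,3,false)) (Tr.leaf (0,0,false))) (Tr.node (Tr.leaf (46,54,false)) (Tr.leaf (0,0,false))))))) (Tr.node (Tr.node (Tr.node (Tr.node (Tr.node (Tr.leaf (2,1,false)) (Tr.leaf (46,50,true))) (Tr.node (Tr.leaf (27,3,false)) (Tr.leaf (0,0,false)))) (Tr.node (Tr.node (Tr.leaf (15,4,false)) (Tr.leaf (0,0,false))) (Tr.node (Tr.leaf (40,0,false)) (Tr.leaf (0,0,false))))) (Tr.node (Tr.node (Tr.node (Tr.leaf (9,1,false)) (Tr.leaf (0,0,false))) (Tr.node (Tr.leaf (33,2,false)) (Tr.leaf (0,0,false)))) (Tr.node (Tr.node (Tr.leaf (21,2,false)) (Tr.leaf (0,0,false))) (Tr.node (Tr.leaf (46,9,false)) (Tr.leaf (0,0,false)))))) (Tr.node (Tr.node (Tr.node (Tr.node (Tr.leaf (6,1,false)) (Tr.leaf (47,10,false))) (Tr.node (Tr.leaf (30,2,false))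 (Tr.leaf (0,0,false)))) (Tr.node (Tr.node (Tr.leaf (18,2,true)) (Tr.leaf (0,0,false))) (Tr.node (Tr.leaf (44,0,false)) (Tr.leaf (0,0,false))))) (Tr.node (Tr.node (Tr.node (Tr.leaf (12,3,false)) (Tr.leaf (0,0,false))) (Tr.node (Tr.leaf (36,1,true)) (Tr.leaf (0,0,false)))) (Tr.node (Tr.node (Tr.leaf (24,2,false)) (Tr.leaf (0,0,false))) (Tr.node (Tr.leaf (46,0,true)) (Tr.leaf (0,0,false)))))))) (Tr.node (Tr.node (Tr.node (Tr.node (Tr.node (Tr.node (Tr.leaf (1,1,false)) (Tr.leaf (46,17,true))) (Tr.node (Tr.leaf (26,5,false)) (Tr.leaf (0,0,false)))) (Tr.node (Tr.node (Tr.leaf (15,0,false)) (Tr.leaf (0,0,false))) (Tr.node (Tr.leaf (39,1,false)) (Tr.leaf (0,0,false))))) (Tr.node (Tr.node (Tr.node (Tr.leaf (8,4,false)) (Tr.leaf (0,0,false))) (Tr.node (Tr.leaf (32,2,false))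 (Tr.leaf (0,0,false)))) (Tr.node (Tr.node (Tr.leaf (20,0,true)) (Tr.leaf (0,0,false))) (Tr.node (Tr.leaf (46,4,false)) (Tr.leaf (0,0,false)))))) (Tr.node (Tr.node (Tr.node (Tr.node (Tr.leaf (5,1,false)) (Tr.leaf (47,6,false))) (Tr.node (Tr.leaf (29,0,true)) (Tr.leaf (0,0,false)))) (Tr.node (Tr.node (Tr.leaf (18,0,false)) (Tr.leaf (0,0,false))) (Tr.node (Tr.leaf (43,0,false)) (Tr.leaf (0,0,false))))) (Tr.node (Tr.node (Tr.node (Tr.leaf (11,3,false)) (Tr.leaf (0,0,false))) (Tr.node (Tr.leaf (35,5,false)) (Tr.leaf (0,0,false)))) (Tr.node (Tr.node (Tr.leaf (23,2,false)) (Tr.leaf (0,0,false))) (Tr.node (Tr.leaf (46,74,false)) (Tr.leaf (0,0,false))))))) (Tr.node (Tr.node (Tr.node (Tr.node (Tr.node (Tr.leaf (3,1,false)) (Tr.leaf (46,88,true))) (Tr.node (Tr.leaf (28,2,false))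 (Tr.leaf (0,0,false)))) (Tr.node (Tr.node (Tr.leaf (16,0,false)) (Tr.leaf (0,0,false))) (Tr.node (Tr.leaf (41,0,false)) (Tr.leaf (0,0,false))))) (Tr.node (Tr.node (Tr.node (Tr.leaf (10,0,false)) (Tr.leaf (0,0,false))) (Tr.node (Tr.leaf (34,1,false)) (Tr.leaf (0,0,false)))) (Tr.node (Tr.node (Tr.leaf (21,3,true)) (Tr.leaf (0,0,false))) (Tr.node (Tr.leaf (46,44,false)) (Tr.leaf (0,0,false)))))) (Tr.node (Tr.node (Tr.node (Tr.node (Tr.leaf (6,3,true)) (Tr.leaf (0,0,false))) (Tr.node (Tr.leaf (31,0,false)) (Tr.leaf (0,0,false)))) (Tr.node (Tr.node (Tr.leaf (19,3,false)) (Tr.leaf (0,0,false))) (Tr.node (Tr.leaf (45,0,false)) (Tr.leaf (0,0,false))))) (Tr.node (Tr.node (Tr.node (Tr.leaf (13,3,false)) (Tr.leaf (0,0,false))) (Tr.node (Tr.leaf (37,2,false)) (Tr.leaf (0,0,false))))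 (Tr.node (Tr.node (Tr.leaf (25,0,false)) (Tr.leaf (0,0,false))) (Tr.node (Tr.leaf (46,4,true)) (Tr.leaf (0,0,false))))))))) (Tr.node (Tr.node (Tr.node (Tr.node (Tr.node (Tr.node (Tr.node (Tr.leaf (0,5,false)) (Tr.leaf (46,11,true))) (Tr.node (Tr.leaf (26,1,false)) (Tr.leaf (0,0,false)))) (Tr.node (Tr.node (Tr.leaf (14,3,false)) (Tr.leaf (0,0,false))) (Tr.node (Tr.leaf (38,3,false)) (Tr.leaf (0,0,false))))) (Tr.node (Tr.node (Tr.node (Tr.leaf (8,1,false)) (Tr.leaf (0,0,false))) (Tr.node (Tr.leaf (32,0,false)) (Tr.leaf (0,0,false)))) (Tr.node (Tr.node (Tr.leaf (20,2,false)) (Tr.leaf (0,0,false))) (Tr.node (Tr.leaf (46,2,false)) (Tr.leaf (0,0,false)))))) (Tr.node (Tr.node (Tr.node (Tr.node (Tr.leaf (4,3,false)) (Tr.leaf (47,4,false))) (Tr.node (Tr.leaf (29,2,false))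 (Tr.leaf (0,0,false)))) (Tr.node (Tr.node (Tr.leaf (17,2,false)) (Tr.leaf (0,0,false))) (Tr.node (Tr.leaf (42,2,false)) (Tr.leaf (0,0,false))))) (Tr.node (Tr.node (Tr.node (Tr.leaf (11,1,false)) (Tr.leaf (0,0,false))) (Tr.node (Tr.leaf (35,3,false)) (Tr.leaf (0,0,false)))) (Tr.node (Tr.node (Tr.leaf (23,0,false)) (Tr.leaf (0,0,false))) (Tr.node (Tr.leaf (46,56,false)) (Tr.leaf (0,0,false))))))) (Tr.node (Tr.node (Tr.node (Tr.node (Tr.node (Tr.leaf (2,3,false)) (Tr.leaf (46,86,true))) (Tr.node (Tr.leaf (28,0,false)) (Tr.leaf (0,0,false)))) (Tr.node (Tr.node (Tr.leaf (15,1,true)) (Tr.leaf (0,0,false))) (Tr.node (Tr.leaf (40,2,false)) (Tr.leaf (0,0,false))))) (Tr.node (Tr.node (Tr.node (Tr.leaf (9,3,false)) (Tr.leaf (0,0,false))) (Tr.node (Tr.leaf (33,2,true))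 (Tr.leaf (0,0,false)))) (Tr.node (Tr.node (Tr.leaf (21,4,false)) (Tr.leaf (0,0,false))) (Tr.node (Tr.leaf (46,11,false)) (Tr.leaf (0,0,false)))))) (Tr.node (Tr.node (Tr.node (Tr.node (Tr.leaf (6,3,false)) (Tr.leaf (0,0,false))) (Tr.node (Tr.leaf (30,4,false)) (Tr.leaf (0,0,false)))) (Tr.node (Tr.node (Tr.leaf (19,1,false)) (Tr.leaf (0,0,false))) (Tr.node (Tr.leaf (44,2,false)) (Tr.leaf (0,0,false))))) (Tr.node (Tr.node (Tr.node (Tr.leaf (13,1,false)) (Tr.leaf (0,0,false))) (Tr.node (Tr.leaf (37,0,false)) (Tr.leaf (0,0,false)))) (Tr.node (Tr.node (Tr.leaf (24,1,true)) (Tr.leaf (0,0,false))) (Tr.node (Tr.leaf (46,2,true)) (Tr.leaf (0,0,false)))))))) (Tr.node (Tr.node (Tr.node (Tr.node (Tr.node (Tr.node (Tr.leaf (1,3,false)) (Tr.leaf (46,45,true))) (Tr.node (Tr.leaf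 (27,1,false)) (Tr.leaf (0,0,false)))) (Tr.node (Tr.node (Tr.leaf (15,2,false)) (Tr.leaf (0,0,false))) (Tr.node (Tr.leaf (39,3,false)) (Tr.leaf (0,0,false))))) (Tr.node (Tr.node (Tr.node (Tr.leaf (8,4,true)) (Tr.leaf (0,0,false))) (Tr.node (Tr.leaf (33,0,false)) (Tr.leaf (0,0,false)))) (Tr.node (Tr.node (Tr.leaf (21,0,false)) (Tr.leaf (0,0,false))) (Tr.node (Tr.leaf (46,6,false)) (Tr.leaf (0,0,false)))))) (Tr.node (Tr.node (Tr.node (Tr.node (Tr.leaf (5,3,false)) (Tr.leaf (47,8,false))) (Tr.node (Tr.leaf (30,0,false)) (Tr.leaf (0,0,false)))) (Tr.node (Tr.node (Tr.leaf (18,2,false)) (Tr.leaf (0,0,false))) (Tr.node (Tr.leaf (43,2,false)) (Tr.leaf (0,0,false))))) (Tr.node (Tr.node (Tr.node (Tr.leaf (12,1,false)) (Tr.leaf (0,0,false))) (Tr.node (Tr.leaf (36,1,false))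 (Tr.leaf (0,0,false)))) (Tr.node (Tr.node (Tr.leaf (24,0,false)) (Tr.leaf (0,0,false))) (Tr.node (Tr.leaf (46,89,false)) (Tr.leaf (0,0,false))))))) (Tr.node (Tr.node (Tr.node (Tr.node (Tr.node (Tr.leaf (3,3,false)) (Tr.leaf (47,0,false))) (Tr.node (Tr.leaf (28,1,true)) (Tr.leaf (0,0,false)))) (Tr.node (Tr.node (Tr.leaf (16,2,false)) (Tr.leaf (0,0,false))) (Tr.node (Tr.leaf (41,2,false)) (Tr.leaf (0,0,false))))) (Tr.node (Tr.node (Tr.node (Tr.leaf (10,2,false)) (Tr.leaf (0,0,false))) (Tr.node (Tr.leaf (34,3,false)) (Tr.leaf (0,0,false)))) (Tr.node (Tr.node (Tr.leaf (22,1,false)) (Tr.leaf (0,0,false))) (Tr.node (Tr.leaf (46,48,false)) (Tr.leaf (0,0,false)))))) (Tr.node (Tr.node (Tr.node (Tr.node (Tr.leaf (7,1,false)) (Tr.leaf (0,0,false))) (Tr.node (Tr.leaf (31,2,false))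 (Tr.leaf (0,0,false)))) (Tr.node (Tr.node (Tr.leaf (19,5,false)) (Tr.leaf (0,0,false))) (Tr.node (Tr.leaf (45,2,false)) (Tr.leaf (0,0,false))))) (Tr.node (Tr.node (Tr.node (Tr.leaf (13,2,true)) (Tr.leaf (0,0,false))) (Tr.node (Tr.leaf (37,1,true)) (Tr.leaf (0,0,false)))) (Tr.node (Tr.node (Tr.leaf (25,2,false)) (Tr.leaf (0,0,false))) (Tr.node (Tr.leaf (46,6,true)) (Tr.leaf (0,0,false)))))))))))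

/-- The subgroup rotations. -/
noncomputable def srotT : Tr (List Nat × Nat × List Nat) := (Tr.node (Tr.node (Tr.node (Tr.leaf ([],0,[])) (Tr.leaf ([],4,[]))) (Tr.node (Tr.leaf ([],2,[])) (Tr.leaf ([],6,[])))) (Tr.node (Tr.node (Tr.leaf ([],1,[])) (Tr.leaf ([],5,[]))) (Tr.node (Tr.leaf ([],3,[])) (Tr.leaf ([],7,[])))))

/-- The certificate. -/
noncomputable def cert : Cert :=
  mkCert 11 98337 600571 6 282 290 4 15 690 54 594 669 18014398509481983 37778931862957161709567 20 17 1048575 131071 37 34 15 ctree.get rotT.get srotT.get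

/-- The letters. -/
def ls : List Nat := [1,2,3,4,5,6,7,8,9,10,11]

/-- The smaller letters. -/
def ls' : List Nat := [1,2,3,4,5,6,7,8]

/-- The inverses. -/
def inv' (c : Nat) : Nat := [0,1,2,3,4,5,6,7,8,10,9].getD c 0

/-- The relators. -/
def rels' : List (List Nat) :=
  [[1,0,1,0,1,0],
   [2,0,2,0],
   [3,0,3,0],
   [4,0,4,0],
   [5,0,5,0],
   [6,0,6,0],
   [7,0,7,0],
   [8,0,8,0],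
   [2,1,2,1,2,1],
   [3,1,3,1],
   [4,1,4,1],
   [5,1,5,1],
   [6,1,6,1],
   [7,1,7,1],
   [8,1,8,1],
   [3,2,3,2,3,2],
   [4,2,4,2],
   [5,2,5,2],
   [6,2,6,2],
   [7,2,7,2,7,2],
   [8,2,8,2],
   [4,3,4,3,4,3],
   [5,3,5,3],
   [6,3,6,3],
   [7,3,7,3],
   [8,3,8,3],
   [5,4,5,4,5,4],
   [6,4,6,4],
   [7,4,7,4],
   [8,4,8,4],
   [6,5,6,5,6,5],
   [7,5,7,5],
   [8,5,8,5],
   [7,6,7,6],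
   [8,6,8,6],
   [8,7,8,7,8,7],
   [9,9,9],
   [9,0,10,0],
   [9,1,10,1],
   [9,2,10,2],
   [9,3,10,3],
   [9,4,10,4],
   [9,5,10,5],
   [9,6,10,6],
   [9,7,10,7],
   [9,8,10,8],
   [8,7,2,4,3,2,0,1,2,8,7,2,4,3,2,0,1,2,8,7,2,4,3,2,0,1,2,8,7,2,4,3,2,0,1,2,8,7,2,4,3,2,0,1,2,8,7,2,4,3,2,0,1,2,8,7,2,4,3,2,0,1,2,8,7,2,4,3,2,0,1,2,8,7,2,4,3,2,0,1,2,8,7,2,4,3,2,0,1,2,10]]

/-- The words of the subgroup. -/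
def subs' : List (List Nat) :=
  [[0],
   [1],
   [2],
   [3],
   [4],
   [5],
   [6],
   [7]]

end Cfsg.Agent.Lib.Schur.Fi23c.L3.Tab
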